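import Cfsg.Agent.Lib.Chev.Fi22InTwE6.Checks

/-! Kernel checks of the certificates for the Fischer group inside ²E₆(2). -/

set_option autoImplicit false
set_option maxRecDepth 100000

namespace Cfsg.Lib.Chev.Fi22InTwE6

open Cfsg.Spor

theorem cox_ok_a : chkCox .a = true := by decide +kernel

theorem cox_ok_b : chkCox .b = true := by decide +kernel

theorem cox_ok_c : chkCox .c = true := by decide +kernel

theorem cox_ok_d : chkCox .d = true := by decide +kernel

theorem cox_ok_e : chkCox .e = true := by decide +kernel

theorem cox_ok_f : chkCox .f = true := by decide +kernel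

theorem cox_ok_g : chkCox .g = true := by decide +kernel

theorem cox_ok_h : chkCox .h = true := by decide +kernel

theorem cox_ok_i : chkCox .i = true := by decide +kernel

end Cfsg.Lib.Chev.Fi22InTwE6
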