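import Cfsg.Agent.Lib.Chev.Fi22InTwE6.Checks

/-! Kernel checks of the certificates for the Fischer group inside ²E₆(2). -/

set_option autoImplicit false
set_option maxRecDepth 100000

namespace Cfsg.Lib.Chev.Fi22InTwE6

open Cfsg.Spor

theorem inv_ok0 : chkInv 0 = true := by decide +kernel

theorem inv_ok1 : chkInv 1 = true := by decide +kernel

theorem inv_ok2 : chkInv 2 = true := by decide +kernel

theorem inv_ok3 : chkInv 3 = true := by decide +kernel

theorem inv_ok4 : chkInv 4 = true := by decide +kernel

theorem inv_ok5 : chkInv 5 = true := by decide +kernel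

theorem inv_ok6 : chkInv 6 = true := by decide +kernel

theorem inv_ok7 : chkInv 7 = true := by decide +kernel

theorem inv_ok8 : chkInv 8 = true := by decide +kernel

end Cfsg.Lib.Chev.Fi22InTwE6
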