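import Cfsg.Agent.Lib.Chev.Fi22InTwE6.Checks

/-! Kernel checks of the certificates for the Fischer group inside ²E₆(2). -/

set_option autoImplicit false
set_option maxRecDepth 100000

namespace Cfsg.Lib.Chev.Fi22InTwE6

open Cfsg.Spor

theorem spider_ok : cpow 78 (genProd [3, 2, 1, 3, 4, 5, 3, 7, 8]) 10 = cone 78 := by decide +kernel

theorem sevenA_ok : cpow 78 (genProd [0, 1, 2, 3, 4, 5, 7]) 9 = cone 78 := by decide +kernel

theorem sevenB_ok : cpow 78 (genProd [1, 2, 3, 4, 5, 6, 7]) 9 = cone 78 := by decide +kernel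

theorem witness_ok : (invMat0.getD 0 (0, 0)).1.testBit 4 = true ∧ (invMat0.getD 0 (0, 0)).2.testBit 4 = false := by
  decide +kernel

end Cfsg.Lib.Chev.Fi22InTwE6
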