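import Cfsg.Agent.Lib.Chev.Fi22InTwE6.Checks

/-! Kernel checks of the certificates for the Fischer group inside ²E₆(2). -/

set_option autoImplicit false
set_option maxRecDepth 100000

namespace Cfsg.Lib.Chev.Fi22InTwE6

open Cfsg.Spor

theorem fixSum_ok : fixSum = cone 78 := by decide +kernel

theorem fixVec_ok : sixL.all (fun g => decide (capp (invMats.getD g []) fixVec = fixVec)) = true := by decide +kernel

theorem spinWords_ok : spinWords.all (fun L => L.all fun g => decide (1 ≤ g ∧ g < 9)) = true := by decide +kernel

theorem spinMat_ok : spinWords.map spinVec = spinMat := by decide +kernel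

theorem spinInv_ok : cmul spinMat spinInv = cone 78 := by decide +kernel

theorem lengths_ok : spinMat.length = 78 ∧ spinInv.length = 78 ∧ spinWords.length = 78 ∧
    (∀ A ∈ fixMats, A.length = 78) ∧ (∀ A ∈ invMats, A.length = 78) ∧ (∀ A ∈ letMats, A.length = 78) := by
  decide +kernel

end Cfsg.Lib.Chev.Fi22InTwE6
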