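import Cfsg.Agent.Lib.Chev.Fi22InTwE6.Data
import Cfsg.Agent.Lib.Chev.TwDataE6
import Cfsg.Prelude.Def_Spor_Fi22

/-! Kernel checks of the certificates for the Fischer group inside ²E₆(2). -/

set_option autoImplicit false
set_option maxRecDepth 100000

namespace Cfsg.Lib.Chev.Fi22InTwE6

open Cfsg.Spor

/-- The letters. -/
def letMats : List Mat :=
  [letMat0, letMat1, letMat2, letMat3, letMat4, letMat5, letMat6, letMat7, letMat8, letMat9, letMat10, letMat11]

/-- The involutions. -/
def invMats : List Mat :=
  [invMat0, invMat1, invMat2, invMat3, invMat4, invMat5, invMat6, invMat7, invMat8]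

/-- The multipliers. -/
def fixMats : List Mat :=
  [fixMat0, fixMat1, fixMat2, fixMat3, fixMat4, fixMat5]

/-- The roots of a letter. -/
noncomputable def letRoots (c : ℕ × Bool × ℕ) : List ℕ :=
  bif c.2.1 then (twE6.base c.1).map tblE6.neg else twE6.base c.1

/-- A product of letters. -/
def wordMat (L : List ℕ) : Mat :=
  List.rec (motive := fun _ => Mat) (cone 78) (fun g _ r => cmul (letMats.getD g []) r) L

/-- A letter has its matrix. -/
noncomputable def chkLet (i : ℕ) : Bool :=
  decide ((letterCodes.getD i (0, false, 0)).1 < 4) &&
    (decide ((letterCodes.getD i (0, false, 0)).1 < 2 ∨ (letterCodes.getD i (0, false, 0)).2.2 = 0) &&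
      decide (orbMat tblE6 (letRoots (letterCodes.getD i (0, false, 0))) (letterCodes.getD i (0, false, 0)).2.2 =
        letMats.getD i []))

theorem let_ok0 : chkLet 0 = true := by decide +kernel

theorem let_ok1 : chkLet 1 = true := by decide +kernel

theorem let_ok2 : chkLet 2 = true := by decide +kernel

theorem let_ok3 : chkLet 3 = true := by decide +kernel

theorem let_ok4 : chkLet 4 = true := by decide +kernel

theorem let_ok5 : chkLet 5 = true := by decide +kernel

theorem let_ok6 : chkLet 6 = true := by decide +kernel

theorem let_ok7 : chkLet 7 = true := by decide +kernel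

theorem let_ok8 : chkLet 8 = true := by decide +kernel

theorem let_ok9 : chkLet 9 = true := by decide +kernel

theorem let_ok10 : chkLet 10 = true := by decide +kernel

theorem let_ok11 : chkLet 11 = true := by decide +kernel

/-- An involution has its matrix. -/
noncomputable def chkInv (i : ℕ) : Bool :=
  (invWords.getD i []).all (fun g => decide (g < 12)) &&
    decide (cmul (invMats.getD i []) (wordMat (invWords.getD i [])) = cmul (wordMat (invWords.getD i [])) letMat10)

/-- The number of a generator. -/
def genNum : Fi22.Gen → ℕ
  | .a => 0
  | .b => 1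
  | .c => 2
  | .d => 3
  | .e => 4
  | .f => 5
  | .g => 6
  | .h => 7
  | .i => 8

/-- The generators. -/
def allGens : List Fi22.Gen := [.a, .b, .c, .d, .e, .f, .g, .h, .i]

/-- The product of generators. -/
def genProd (L : List ℕ) : Mat :=
  List.rec (motive := fun _ => Mat) (cone 78) (fun g _ r => cmul (invMats.getD g []) r) L

/-- A Coxeter relation of two generators. -/
noncomputable def chkPair (x y : Fi22.Gen) : Bool :=
  let A := invMats.getD (genNum x) []
  let B := invMats.getD (genNum y) []
  bif Nat.blt (genNum x) (genNum y) then
    (bif Nat.beq (coxLabel Fi22.edges x y) 2 then decide (cmul A B = cmul B A)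
     else Nat.beq (coxLabel Fi22.edges x y) 3 && decide (cmul A (cmul B A) = cmul B (cmul A B)))
  else true

/-- The Coxeter relations of one generator. -/
noncomputable def chkCox (x : Fi22.Gen) : Bool :=
  decide (cmul (invMats.getD (genNum x) []) (invMats.getD (genNum x) []) = cone 78) && allGens.all (chkPair x)

/-- The indices used for the fixed line. -/
def sixL : List ℕ := [1, 2, 3, 4, 5, 7]

/-- The line through the fixed vector, as a matrix. -/
def fixLine : Mat := (List.range 78).map fun j => bif Nat.beq j fixPos then fixVec else (0, 0)

/-- The identity of the fixed line. -/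
def fixSum : Mat :=
  List.rec (motive := fun _ => Mat) fixLine
    (fun p _ r => caddM (cmul p.1 (caddM (invMats.getD p.2 []) (cone 78))) r) (fixMats.zip sixL)

/-- A word applied to the fixed vector. -/
def spinVec (L : List ℕ) : ℕ × ℕ :=
  List.rec (motive := fun _ => ℕ × ℕ) fixVec (fun g _ r => capp (invMats.getD g []) r) L

end Cfsg.Lib.Chev.Fi22InTwE6
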