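import Cfsg.Agent.Lib.Chev.Fi22InTwE6.Main
import Cfsg.Agent.Lib.Chev.F4InTwE6.Ctx

/-! The setting for a field with four elements. -/

set_option autoImplicit false
set_option linter.unusedSectionVars false
set_option maxRecDepth 100000

namespace Cfsg.Lib.Chev.Fi22InTwE6

open Cfsg.Lie

variable {K : Type*} [Field K] [Fintype K]

/-- The setting exists. -/
theorem exists_setting (hK : Fintype.card K = 4) :
    ∃ (X : TwCtx chevE6 tblE6 K) (w : K), Setting X w ∧ Cfsg.Lie.twistedE6 K 2 = X.grp ∧ X.AutChecks ∧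
      Nat.card ↥((torusHom chevE6 tblE6 K).ker ⊓ twFixPar X.symOK X.frob X.cert) = 3 ∧ ∀ u : Kˣ, u ^ 3 = 1 := by
  classical
  have hq : IsPrimePow 2 := Nat.prime_two.isPrimePow
  have hK2 : Fintype.card K = 2 ^ 2 := by rw [hK]; norm_num
  have hK' : Nat.card K = 2 ^ 2 := by rw [Nat.card_eq_fintype_card]; exact hK2
  have h2 : (2 : K) = 0 := by
    have h4 : (2 : K) * 2 = 0 := by
      have := Nat.cast_card_eq_zero K
      rw [hK] at this
      norm_num at this ⊢
      exact this
    exact mul_self_eq_zero.1 h4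
  have hexp : ∀ u : Kˣ, u ^ 3 = 1 := fun u => by
    have := pow_card_eq_one (x := u)
    rwa [Fintype.card_units, hK] at this
  obtain ⟨w0, hw0, hw1⟩ : ∃ w : K, w ≠ 0 ∧ w ≠ 1 := by
    by_contra hc
    push Not at hc
    have : (Finset.univ : Finset K) ⊆ {0, 1} := fun x _ => by
      by_cases hx : x = 0
      · simp [hx]
      · simp [hc x hx]
    have := Finset.card_le_card this
    rw [Finset.card_univ, hK] at this
    have := Finset.card_le_two (a := (0 : K)) (b := 1)
    omega
  have hroot : w0 ^ 2 = w0 + 1 := by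
    have h3 : w0 ^ 3 = 1 := by
      have := congrArg Units.val (hexp (Units.mk0 w0 hw0))
      simpa using this
    have hm : (w0 - 1) * (w0 ^ 2 + w0 + 1) = 0 := by linear_combination h3
    rcases mul_eq_zero.1 hm with h | h
    · exact absurd (sub_eq_zero.1 h) hw1
    · linear_combination h - (w0 + 1) * h2
  obtain ⟨f, hf, hit, hk⟩ := exists_frobQ hq (by norm_num) hK'
  obtain ⟨heq, A, hker⟩ := ctxE6Of_spec hq hK2 hf hit hk hK'
  have hker3 : Nat.gcd 3 (2 + 1) = 3 := by norm_num
  refine ⟨ctxE6Of hq hK' hit hk, w0, ⟨h2, hroot, hf, rfl, fun J _ => rfl, fun J hJ k => ?_⟩, heq, A,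
    hker.trans hker3, hexp⟩
  rw [TwCtx.mem_sub]
  show f^[(twE6.orb J).length] (w0 ^ k) = w0 ^ k
  rcases (show J = 0 ∨ J = 1 by omega) with rfl | rfl
  · exact hk _
  · exact hk _

end Cfsg.Lib.Chev.Fi22InTwE6
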