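import Cfsg.Agent.Lib.Chev.Fi22InTwE6.Letters
import Cfsg.Agent.Lib.Chev.Fi22InTwE6.CheckCox
import Cfsg.Agent.Lib.Chev.Fi22InTwE6.CheckRel
import Cfsg.Agent.Lib.Chev.Fi22InTwE6.CheckSpin
import Cfsg.Agent.Lib.CosetEnum.Groups.Fi22Simple

/-! The embedding of the presented Fischer group into ²E₆(2). -/

set_option autoImplicit false
set_option linter.unusedSectionVars false
set_option maxRecDepth 100000

namespace Cfsg.Lib.Chev.Fi22InTwE6

open Cfsg.Lie Cfsg.Spor

variable {K : Type*} [Field K]

theorem genNum_lt (x : Fi22.Gen) : genNum x < 9 := by cases x <;> decide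

theorem genNum_inj {x y : Fi22.Gen} (h : genNum x = genNum y) : x = y := by
  cases x <;> cases y <;> first | rfl | exact absurd h (by decide)

theorem mem_allGens (x : Fi22.Gen) : x ∈ allGens := by cases x <;> decide

theorem coxLabel_comm (x y : Fi22.Gen) : coxLabel Fi22.edges x y = coxLabel Fi22.edges y x := by
  cases x <;> cases y <;> decide +kernel

theorem cox_ok (x : Fi22.Gen) : chkCox x = true := by
  cases x
  exacts [cox_ok_a, cox_ok_b, cox_ok_c, cox_ok_d, cox_ok_e, cox_ok_f, cox_ok_g, cox_ok_h, cox_ok_i]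

theorem invMats_length {i : ℕ} (hi : i < 9) : (invMats.getD i []).length = 78 :=
  lengths_ok.2.2.2.2.1 _ (by
    rw [List.getD_eq_getElem _ _ (show i < invMats.length from hi)]
    exact List.getElem_mem _)

variable {X : TwCtx chevE6 tblE6 K} {w : K} (h : Setting X w)
include h

/-- The involution of a generator. -/
noncomputable def genEl (x : Fi22.Gen) : ↥X.grp :=
  ⟨invEl X w (genNum x), (invEl_spec h (genNum_lt x) (invMats_length (genNum_lt x))).1⟩

theorem genEl_mat (x : Fi22.Gen) : (((genEl h x : ↥X.grp) : GL chevE6.Idx K) : Matrix chevE6.Idx chevE6.Idx K) =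
    decM w chevE6 (invMats.getD (genNum x) []) :=
  (invEl_spec h (genNum_lt x) (invMats_length (genNum_lt x))).2

theorem eq_of_mat {a b : ↥X.grp}
    (e : ((a : GL chevE6.Idx K) : Matrix chevE6.Idx chevE6.Idx K) = ((b : GL chevE6.Idx K) : Matrix chevE6.Idx chevE6.Idx K)) :
    a = b :=
  Subtype.ext (Units.ext e)

/-- The product of a list of involutions. -/
noncomputable def prodEl : List Fi22.Gen → ↥X.grp
  | [] => 1
  | x :: L => genEl h x * prodEl L

theorem prodEl_mat : ∀ L : List Fi22.Gen,
    ((((prodEl h L : ↥X.grp)) : GL chevE6.Idx K) : Matrix chevE6.Idx chevE6.Idx K) =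
      decM w chevE6 (genProd (L.map genNum)) ∧ (genProd (L.map genNum)).length = 78
  | [] => ⟨by
      rw [show genProd (List.map genNum []) = cone 78 from rfl, ← dim_eq, decM_cone]
      rfl, cone_length _⟩
  | x :: L => by
    obtain ⟨e1, e2⟩ := prodEl_mat L
    have e3 : genProd ((x :: L).map genNum) = cmul (invMats.getD (genNum x) []) (genProd (L.map genNum)) := rfl
    refine ⟨?_, by rw [e3, cmul_length, e2]⟩
    rw [prodEl, Subgroup.coe_mul, Units.val_mul, genEl_mat, e1, e3,
      decM_cmul h.two h.root (by rw [invMats_length (genNum_lt x), dim_eq]) (by rw [e2, dim_eq])]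

theorem prodEl_pow (L : List Fi22.Gen) (m : ℕ) (hm : cpow 78 (genProd (L.map genNum)) m = cone 78) :
    prodEl h L ^ m = 1 := by
  obtain ⟨e1, e2⟩ := prodEl_mat h L
  refine eq_of_mat h ?_
  rw [SubgroupClass.coe_pow, Units.val_pow_eq_pow_val, e1, ← decM_cpow h.two h.root (by rw [e2, dim_eq]),
    dim_eq, hm, ← dim_eq, decM_cone]
  rfl

theorem genEl_sq (x : Fi22.Gen) : genEl h x * genEl h x = 1 := by
  have hc := cox_ok x
  simp only [chkCox, Bool.and_eq_true, decide_eq_true_eq] at hc
  refine eq_of_mat h ?_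
  rw [Subgroup.coe_mul, Units.val_mul, genEl_mat, ← decM_cmul h.two h.root
    (by rw [invMats_length (genNum_lt x), dim_eq]) (by rw [invMats_length (genNum_lt x), dim_eq]), hc.1, ← dim_eq,
    decM_cone]
  rfl

theorem genEl_pair {x y : Fi22.Gen} (hxy : genNum x < genNum y) :
    (genEl h x * genEl h y) ^ coxLabel Fi22.edges x y = 1 := by
  have hc := cox_ok x
  simp only [chkCox, Bool.and_eq_true, List.all_eq_true] at hc
  have hp := hc.2 y (mem_allGens y)
  have hb : Nat.blt (genNum x) (genNum y) = true := by rw [Nat.blt_eq]; exact hxy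
  simp only [chkPair, hb, cond_true] at hp
  have hA : (invMats.getD (genNum x) []).length = chevE6.rank + chevE6.nroots := by
    rw [invMats_length (genNum_lt x), dim_eq]
  have hB : (invMats.getD (genNum y) []).length = chevE6.rank + chevE6.nroots := by
    rw [invMats_length (genNum_lt y), dim_eq]
  have mA := genEl_mat h x
  have mB := genEl_mat h y
  set a := genEl h x
  set b := genEl h y
  have ha : a * a = 1 := genEl_sq h x
  have hb' : b * b = 1 := genEl_sq h y
  rcases hl : Nat.beq (coxLabel Fi22.edges x y) 2 with _ | _ <;> rw [hl] at hp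
  · simp only [cond_false, Bool.and_eq_true, decide_eq_true_eq] at hp
    obtain ⟨h3, e⟩ := hp
    rw [Nat.eq_of_beq_eq_true h3]
    have e' := congrArg (decM w chevE6) e
    rw [decM_cmul h.two h.root hA (by rw [cmul_length, hA]), decM_cmul h.two h.root hB hA,
      decM_cmul h.two h.root hB (by rw [cmul_length, hB]), decM_cmul h.two h.root hA hB] at e'
    have hbr : a * (b * a) = b * (a * b) := eq_of_mat h (by
      simp only [Subgroup.coe_mul, Units.val_mul, mA, mB]; exact e')
    calc (a * b) ^ 3 = a * (b * a) * (b * (a * b)) := by simp [pow_succ, mul_assoc]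
      _ = b * (a * b) * (b * (a * b)) := by rw [hbr]
      _ = b * (a * (b * b) * a) * b := by group
      _ = 1 := by rw [hb', mul_one, ha, mul_one, hb']
  · simp only [cond_true, decide_eq_true_eq] at hp
    rw [Nat.eq_of_beq_eq_true hl]
    have e' := congrArg (decM w chevE6) hp
    rw [decM_cmul h.two h.root hA hB, decM_cmul h.two h.root hB hA] at e'
    have hbr : a * b = b * a := eq_of_mat h (by simp only [Subgroup.coe_mul, Units.val_mul, mA, mB]; exact e')
    calc (a * b) ^ 2 = a * (b * a) * b := by simp [pow_succ, mul_assoc]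
      _ = a * (a * b) * b := by rw [hbr]
      _ = a * a * (b * b) := by group
      _ = 1 := by rw [ha, hb', mul_one]

theorem genEl_cox (x y : Fi22.Gen) : (genEl h x * genEl h y) ^ coxLabel Fi22.edges x y = 1 := by
  rcases lt_trichotomy (genNum x) (genNum y) with hlt | heq | hlt
  · exact genEl_pair h hlt
  · obtain rfl := genNum_inj heq
    rw [coxLabel, if_pos rfl, pow_one, genEl_sq]
  · have e := genEl_pair h hlt
    rw [coxLabel_comm] at e
    have e2 : genEl h x * genEl h y = genEl h x * (genEl h y * genEl h x) * (genEl h x)⁻¹ := by group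
    rw [e2, conj_pow, e, mul_one, mul_inv_cancel]

theorem rels_hold : ∀ r ∈ coxRelators Fi22.edges ∪ {r | r ∈ Fi22.extra}, FreeGroup.lift (genEl h) r = 1 := by
  rintro r (⟨x, -, y, -, rfl⟩ | hr)
  · rw [map_pow, map_mul, FreeGroup.lift_apply_of, FreeGroup.lift_apply_of]
    exact genEl_cox h x y
  · simp only [Fi22.extra, Set.mem_setOf_eq, List.mem_cons, List.not_mem_nil, or_false] at hr
    rcases hr with rfl | rfl | rfl
    · have := prodEl_pow h [.d, .c, .b, .d, .e, .f, .d, .h, .i] 10 spider_ok
      simp only [prodEl, mul_one] at this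
      simpa [map_pow, map_mul, FreeGroup.lift_apply_of, mul_assoc] using this
    · have := prodEl_pow h [.a, .b, .c, .d, .e, .f, .h] 9 sevenA_ok
      simp only [prodEl, mul_one] at this
      simpa [map_pow, map_mul, FreeGroup.lift_apply_of, mul_assoc] using this
    · have := prodEl_pow h [.b, .c, .d, .e, .f, .g, .h] 9 sevenB_ok
      simp only [prodEl, mul_one] at this
      simpa [map_pow, map_mul, FreeGroup.lift_apply_of, mul_assoc] using this

/-- The homomorphism from the presented group. -/
noncomputable def toGrp : Cfsg.Spor.Fi22 →* ↥X.grp := PresentedGroup.toGroup (rels_hold h)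

theorem toGrp_of (x : Fi22.Gen) : toGrp h (PresentedGroup.of x) = genEl h x := PresentedGroup.toGroup.of _

theorem genEl_a_ne_one : genEl h .a ≠ 1 := by
  intro e
  have e1 := genEl_mat h .a
  rw [e] at e1
  obtain ⟨i, hi⟩ := exists_enc (D := chevE6) (k := 4) (by rw [dim_eq]; norm_num)
  obtain ⟨j, hj⟩ := exists_enc (D := chevE6) (k := 0) (by rw [dim_eq]; norm_num)
  have hne : i ≠ j := fun e' => by rw [e', hj] at hi; exact absurd hi (by norm_num)
  have e2 := congrFun (congrFun e1 i) j
  rw [show ((((1 : ↥X.grp) : GL chevE6.Idx K)) : Matrix chevE6.Idx chevE6.Idx K) = 1 from rfl,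
    Matrix.one_apply_ne hne] at e2
  simp only [decM, decV, hj, hi, show genNum Fi22.Gen.a = 0 from rfl, show invMats.getD 0 [] = invMat0 from rfl,
    witness_ok.1, witness_ok.2, cval, cond_true, cond_false, mul_zero, add_zero] at e2
  exact zero_ne_one e2

theorem toGrp_injective : Function.Injective (toGrp h) := by
  have := (Cfsg.Lib.CosetEnum.Fi22Pres.isFi22).1
  rw [← MonoidHom.ker_eq_bot_iff]
  rcases (MonoidHom.normal_ker (toGrp h)).eq_bot_or_eq_top with hk | hk
  · exact hk
  · have : toGrp h (PresentedGroup.of .a) = 1 := MonoidHom.mem_ker.1 (hk ▸ Subgroup.mem_top _)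
    rw [toGrp_of] at this
    exact absurd this (genEl_a_ne_one h)

end Cfsg.Lib.Chev.Fi22InTwE6
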