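import Cfsg.Agent.Lib.Chev.Fi22InTwE6.Hom

/-! Only scalars commute with the subgroup generated by the involutions `b, …, i`. -/

set_option autoImplicit false
set_option linter.unusedSectionVars false
set_option maxRecDepth 100000

namespace Cfsg.Lib.Chev.Fi22InTwE6

open Cfsg.Lie
open scoped Matrix

variable {D : ChevalleyDatum} {K : Type*} [Field K] {w : K}

/-- The sum of the products of multipliers with the differences, applied to a vector fixed by all. -/
theorem fold_fixed (h2 : (2 : K) = 0) (hw : w ^ 2 = w + 1) {z : D.Idx → K} (L0 : Mat)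
    (hL0 : L0.length = D.rank + D.nroots) (inv : List Mat) :
    ∀ (ps : List (Mat × ℕ)), (∀ p ∈ ps, p.1.length = D.rank + D.nroots ∧
        (inv.getD p.2 []).length = D.rank + D.nroots ∧ decM w D (inv.getD p.2 []) *ᵥ z = z) →
      (List.rec (motive := fun _ => Mat) L0
        (fun p _ r => caddM (cmul p.1 (caddM (inv.getD p.2 []) (cone (D.rank + D.nroots)))) r) ps).length =
          D.rank + D.nroots ∧
      decM w D (List.rec (motive := fun _ => Mat) L0
        (fun p _ r => caddM (cmul p.1 (caddM (inv.getD p.2 []) (cone (D.rank + D.nroots)))) r) ps) *ᵥ z =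
          decM w D L0 *ᵥ z
  | [], _ => ⟨hL0, rfl⟩
  | p :: ps, hps => by
    obtain ⟨l1, e1⟩ := fold_fixed h2 hw L0 hL0 inv ps fun q hq => hps q (List.mem_cons_of_mem _ hq)
    obtain ⟨a1, a2, a3⟩ := hps p (List.mem_cons_self ..)
    have l2 : (caddM (inv.getD p.2 []) (cone (D.rank + D.nroots))).length = D.rank + D.nroots := by
      unfold caddM; rw [List.length_zipWith, a2, cone_length, min_self]
    refine ⟨?_, ?_⟩
    · show (caddM _ _).length = _
      unfold caddM; rw [List.length_zipWith]
      rw [show (cmul p.1 (List.zipWith cadd (inv.getD p.2 []) (cone (D.rank + D.nroots)))).length =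
        D.rank + D.nroots from (cmul_length _ _).trans l2]
      exact (congrArg (min _) l1).trans (min_self _)
    · show decM w D (caddM _ _) *ᵥ z = _
      rw [decM_caddM h2 hw (((cmul_length _ _).trans l2).trans l1.symm), Matrix.add_mulVec, e1,
        decM_cmul h2 hw a1 l2, ← Matrix.mulVec_mulVec, decM_caddM h2 hw (by rw [a2, cone_length]),
        Matrix.add_mulVec, a3, decM_cone, Matrix.one_mulVec, show z + z = 0 from funext fun i => by
          show z i + z i = 0
          linear_combination (z i) * h2, Matrix.mulVec_zero, zero_add]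

/-- A matrix with one column applied to a vector. -/
theorem line_mulVec (n pos : ℕ) (v : ℕ × ℕ) (hn : n = D.rank + D.nroots) (j0 : D.Idx) (hj0 : enc j0 = pos)
    (z : D.Idx → K) :
    decM w D ((List.range n).map fun j => bif Nat.beq j pos then v else (0, 0)) *ᵥ z = z j0 • decV w D v := by
  funext i
  have hcol : ∀ j : D.Idx, decM w D ((List.range n).map fun j => bif Nat.beq j pos then v else (0, 0)) i j =
      if j = j0 then decV w D v i else 0 := by
    intro j
    show decV w D (((List.range n).map fun j => bif Nat.beq j pos then v else (0, 0)).getD (enc j) (0, 0)) i = _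
    rw [List.getD_eq_getElem _ _ (by rw [List.length_map, List.length_range, hn]; exact enc_lt j), List.getElem_map,
      List.getElem_range]
    by_cases e : j = j0
    · subst e; rw [hj0, Nat.beq_refl, cond_true, if_pos rfl]
    · rw [show Nat.beq (enc j) pos = false from (by
        rw [← Bool.not_eq_true, Nat.beq_eq, ← hj0]; exact fun e' => e (enc_injective e')), cond_false, if_neg e,
        decV_zero]
      rfl
  simp only [Matrix.mulVec, dotProduct, hcol, Pi.smul_apply, smul_eq_mul, ite_mul, zero_mul, Finset.sum_ite_eq',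
    Finset.mem_univ, if_true]
  exact mul_comm _ _

/-- A matrix commuting with the involutions `b, …, i` is scalar. -/
theorem scalar_of_commute (h2 : (2 : K) = 0) (hw : w ^ 2 = w + 1) {G : Matrix chevE6.Idx chevE6.Idx K}
    (hG : ∀ i, 1 ≤ i → i < 9 → G * decM w chevE6 (invMats.getD i []) = decM w chevE6 (invMats.getD i []) * G) :
    ∃ s : K, G = s • (1 : Matrix chevE6.Idx chevE6.Idx K) := by
  have hsix : ∀ g ∈ sixL, 1 ≤ g ∧ g < 9 ∧ capp (invMats.getD g []) fixVec = fixVec := by
    intro g hg
    have h1 : ∀ g ∈ sixL, 1 ≤ g ∧ g < 9 := by decide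
    exact ⟨(h1 g hg).1, (h1 g hg).2, of_decide_eq_true (List.all_eq_true.1 fixVec_ok g hg)⟩
  have hlenI : ∀ g, g < 9 → (invMats.getD g []).length = chevE6.rank + chevE6.nroots := fun g hg => by
    rw [invMats_length hg, dim_eq]
  have capp' : ∀ g, g < 9 → ∀ x, decV w chevE6 (capp (invMats.getD g []) x) =
      decM w chevE6 (invMats.getD g []) *ᵥ decV w chevE6 x := fun g hg x => decV_capp h2 hw (hlenI g hg) x
  let v : chevE6.Idx → K := decV w chevE6 fixVec
  obtain ⟨j0, hj0⟩ := exists_enc (D := chevE6) (k := fixPos) (by rw [dim_eq]; decide)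
  -- the common fixed vectors form a line
  have hline : ∀ z : chevE6.Idx → K, (∀ g ∈ sixL, decM w chevE6 (invMats.getD g []) *ᵥ z = z) → z = z j0 • v := by
    intro z hz
    have hlenF : fixLine.length = chevE6.rank + chevE6.nroots := by
      rw [dim_eq, fixLine, List.length_map, List.length_range]
    obtain ⟨-, e⟩ := fold_fixed (D := chevE6) h2 hw (z := z) fixLine hlenF invMats (fixMats.zip sixL) (by
      rintro ⟨R, g⟩ hp
      obtain ⟨hR, hg⟩ := List.of_mem_zip hp
      exact ⟨by rw [dim_eq]; exact lengths_ok.2.2.2.1 R hR, hlenI g (hsix g hg).2.1, hz g hg⟩)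
    rw [dim_eq] at e
    change decM w chevE6 fixSum *ᵥ z = decM w chevE6 fixLine *ᵥ z at e
    rw [fixSum_ok, ← dim_eq, decM_cone, Matrix.one_mulVec] at e
    exact e.trans (line_mulVec 78 fixPos fixVec dim_eq.symm j0 hj0 z)
  set s := (G *ᵥ v) j0
  have hGv : G *ᵥ v = s • v := hline _ fun g hg => by
    obtain ⟨h1, h9, hfix⟩ := hsix g hg
    rw [Matrix.mulVec_mulVec, ← hG g h1 h9, ← Matrix.mulVec_mulVec]
    congr 1
    show _ *ᵥ decV w chevE6 fixVec = _
    rw [← capp' g h9, hfix]
  have hspin : ∀ L : List ℕ, (∀ g ∈ L, 1 ≤ g ∧ g < 9) →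
      G *ᵥ decV w chevE6 (spinVec L) = s • decV w chevE6 (spinVec L) := by
    intro L
    induction L with
    | nil => exact fun _ => hGv
    | cons g L ih =>
      intro hL
      obtain ⟨h1, h9⟩ := hL g (List.mem_cons_self ..)
      show G *ᵥ decV w chevE6 (capp (invMats.getD g []) (spinVec L)) = _
      rw [capp' g h9, Matrix.mulVec_mulVec, hG g h1 h9, ← Matrix.mulVec_mulVec,
        ih fun x hx => hL x (List.mem_cons_of_mem _ hx), Matrix.mulVec_smul, ← capp' g h9]
      rfl
  have hlenS : spinMat.length = chevE6.rank + chevE6.nroots := by rw [dim_eq]; exact lengths_ok.1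
  have hGW : G * decM w chevE6 spinMat = s • decM w chevE6 spinMat := by
    ext i j
    have hj : enc j < spinWords.length := by rw [lengths_ok.2.2.1, ← dim_eq]; exact enc_lt j
    have hcol : decM w chevE6 spinMat = fun a b => decV w chevE6 (spinMat.getD (enc b) (0, 0)) a := rfl
    have hget : spinMat.getD (enc j) (0, 0) = spinVec (spinWords[enc j]) := by
      rw [← spinMat_ok, List.getD_eq_getElem _ _ (by rw [List.length_map]; exact hj), List.getElem_map]
    have hw' : ∀ g ∈ spinWords[enc j], 1 ≤ g ∧ g < 9 := fun g hg =>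
      of_decide_eq_true (List.all_eq_true.1 (List.all_eq_true.1 spinWords_ok _ (List.getElem_mem hj)) g hg)
    have := congrFun (hspin _ hw') i
    rw [← hget] at this
    exact this
  refine ⟨s, ?_⟩
  have e : decM w chevE6 spinMat * decM w chevE6 spinInv = (1 : Matrix chevE6.Idx chevE6.Idx K) := by
    rw [← decM_cmul h2 hw hlenS (by rw [dim_eq]; exact lengths_ok.2.1), spinInv_ok, ← dim_eq, decM_cone]
  calc G = G * (decM w chevE6 spinMat * decM w chevE6 spinInv) := by rw [e, mul_one]
    _ = s • (decM w chevE6 spinMat * decM w chevE6 spinInv) := by rw [← mul_assoc, hGW, Matrix.smul_mul]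
    _ = s • 1 := by rw [e]

end Cfsg.Lib.Chev.Fi22InTwE6
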