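import Cfsg.Agent.Lib.Chev.Fi22InTwE6.CheckInv
import Cfsg.Agent.Lib.Chev.F4InTwE6.Ctx

/-! The nine root involutions as elements of ²E₆(2) and their matrices. -/

set_option autoImplicit false
set_option linter.unusedSectionVars false
set_option maxRecDepth 100000

namespace Cfsg.Lib.Chev.Fi22InTwE6

open Cfsg.Lie

variable {K : Type*} [Field K]

/-- The hypotheses on a twisted context: the data of ²E₆(2) and a generator of the field. -/
structure Setting (X : TwCtx chevE6 tblE6 K) (w : K) : Prop where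
  two : (2 : K) = 0
  root : w ^ 2 = w + 1
  frob : ∀ t, X.frob t = t ^ 2
  norb : X.tw.norb = 4
  base : ∀ J < 4, X.tw.base J = twE6.base J
  memLong : ∀ J < 2, ∀ k : ℕ, w ^ k ∈ X.sub J

theorem dim_eq : chevE6.rank + chevE6.nroots = 78 := by decide +kernel

theorem dimT_eq : tblE6.rank + tblE6.nroots = 78 := by decide +kernel

/-- The element of a letter. -/
noncomputable def letEl (X : TwCtx chevE6 tblE6 K) (w : K) (c : ℕ × Bool × ℕ) : GL chevE6.Idx K :=
  orbEl X.cert X.frob (letRoots c) (w ^ c.2.2)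

/-- The element of a word. -/
noncomputable def wordEl (X : TwCtx chevE6 tblE6 K) (w : K) : List ℕ → GL chevE6.Idx K
  | [] => 1
  | g :: L => letEl X w (letterCodes.getD g (0, false, 0)) * wordEl X w L

/-- The element of an involution. -/
noncomputable def invEl (X : TwCtx chevE6 tblE6 K) (w : K) (i : ℕ) : GL chevE6.Idx K :=
  wordEl X w (invWords.getD i []) * letEl X w (letterCodes.getD 10 (0, false, 0)) *
    (wordEl X w (invWords.getD i []))⁻¹

theorem let_ok {g : ℕ} (hg : g < 12) : chkLet g = true := by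
  interval_cases g
  exacts [let_ok0, let_ok1, let_ok2, let_ok3, let_ok4, let_ok5, let_ok6, let_ok7, let_ok8, let_ok9, let_ok10, let_ok11]

theorem inv_ok {i : ℕ} (hi : i < 9) : chkInv i = true := by
  interval_cases i
  exacts [inv_ok0, inv_ok1, inv_ok2, inv_ok3, inv_ok4, inv_ok5, inv_ok6, inv_ok7, inv_ok8]

theorem let_facts {g : ℕ} (hg : g < 12) :
    (letterCodes.getD g (0, false, 0)).1 < 4 ∧
      ((letterCodes.getD g (0, false, 0)).1 < 2 ∨ (letterCodes.getD g (0, false, 0)).2.2 = 0) ∧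
      orbMat tblE6 (letRoots (letterCodes.getD g (0, false, 0))) (letterCodes.getD g (0, false, 0)).2.2 =
        letMats.getD g [] := by
  have h := let_ok hg
  simp only [chkLet, Bool.and_eq_true, decide_eq_true_eq] at h
  exact h

theorem letRoots_lt {c : ℕ × Bool × ℕ} (hc : c.1 < 4) : ∀ r ∈ letRoots c, r < chevE6.nroots := by
  have key : ∀ J < 4, (∀ r ∈ twE6.base J, r < chevE6.nroots) ∧
      (∀ r ∈ (twE6.base J).map tblE6.neg, r < chevE6.nroots) := by decide +kernel
  obtain ⟨h1, h2⟩ := key c.1 hc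
  rcases hb : c.2.1 with _ | _ <;> simp only [letRoots, hb, cond_true, cond_false]
  exacts [h1, h2]

theorem wordMat_length : ∀ L : List ℕ, (wordMat L).length = 78
  | [] => cone_length _
  | g :: L => (cmul_length _ _).trans (wordMat_length L)

variable {X : TwCtx chevE6 tblE6 K} {w : K} (h : Setting X w)
include h

theorem letEl_mem {c : ℕ × Bool × ℕ} (hc : c.1 < 4) (hk : c.1 < 2 ∨ c.2.2 = 0) : letEl X w c ∈ X.grp := by
  have hJ : c.1 < X.tw.norb := by rw [h.norb]; exact hc
  have hm : w ^ c.2.2 ∈ X.sub c.1 := by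
    rcases hk with hk | hk
    · exact h.memLong _ hk _
    · rw [hk, pow_zero]; exact one_mem _
  rcases hb : c.2.1 with _ | _ <;> rw [letEl, letRoots, hb, ← h.base _ hc]
  · exact X.el_mem ⟨c.1, hJ⟩ hm
  · exact X.eln_mem ⟨c.1, hJ⟩ hm

theorem orbEl_mat : ∀ (l : List ℕ) (k : ℕ), (∀ r ∈ l, r < chevE6.nroots) →
    ((orbEl X.cert X.frob l (w ^ k) : GL chevE6.Idx K) : Matrix chevE6.Idx chevE6.Idx K) =
      decM w chevE6 (orbMat tblE6 l k)
  | [], k, _ => by
    rw [orbEl, orbMat, Units.val_one, dimT_eq, ← dim_eq, decM_cone]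
  | r :: l, k, hl => by
    have hw3 : w ^ 3 = 1 := w_cube h.two h.root
    rw [orbEl, orbMat, Units.val_mul, coe_xg, h.frob, ← pow_mul, mul_comm k 2, pow_eq_pow_mod (2 * k) hw3,
      orbEl_mat l (2 * k % 3) (fun s hs => hl s (List.mem_cons_of_mem _ hs)),
      decM_cmul h.two h.root (by simp [rootMat, dimT_eq, dim_eq]) (by rw [orbMat_length, dimT_eq, dim_eq]),
      decM_rootMat h.two h.root certE6C.spec.shape k (hl r (List.mem_cons_self ..))]

theorem letEl_mat {g : ℕ} (hg : g < 12) :
    ((letEl X w (letterCodes.getD g (0, false, 0)) : GL chevE6.Idx K) : Matrix chevE6.Idx chevE6.Idx K) =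
      decM w chevE6 (letMats.getD g []) := by
  obtain ⟨h1, -, h3⟩ := let_facts hg
  rw [letEl, orbEl_mat h _ _ (letRoots_lt h1), h3]

theorem wordEl_spec : ∀ L : List ℕ, (∀ g ∈ L, g < 12) → wordEl X w L ∈ X.grp ∧
    ((wordEl X w L : GL chevE6.Idx K) : Matrix chevE6.Idx chevE6.Idx K) = decM w chevE6 (wordMat L)
  | [], _ => ⟨one_mem _, by
      rw [wordEl, Units.val_one, show wordMat [] = cone 78 from rfl, ← dim_eq, decM_cone]⟩
  | g :: L, hL => by
    have hg := hL g (List.mem_cons_self ..)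
    obtain ⟨m1, m2⟩ := wordEl_spec L fun s hs => hL s (List.mem_cons_of_mem _ hs)
    obtain ⟨h1, h2, h3⟩ := let_facts hg
    refine ⟨mul_mem (letEl_mem h h1 h2) m1, ?_⟩
    rw [wordEl, Units.val_mul, letEl_mat h hg, m2,
      show wordMat (g :: L) = cmul (letMats.getD g []) (wordMat L) from rfl,
      decM_cmul h.two h.root (by rw [← h3, orbMat_length, dimT_eq, dim_eq]) (by rw [wordMat_length, dim_eq])]

theorem invEl_spec {i : ℕ} (hi : i < 9) (hlen : (invMats.getD i []).length = 78) : invEl X w i ∈ X.grp ∧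
    ((invEl X w i : GL chevE6.Idx K) : Matrix chevE6.Idx chevE6.Idx K) = decM w chevE6 (invMats.getD i []) := by
  have hc := inv_ok hi
  simp only [chkInv, Bool.and_eq_true, List.all_eq_true, decide_eq_true_eq] at hc
  obtain ⟨hlt, heq⟩ := hc
  obtain ⟨m1, m2⟩ := wordEl_spec h _ hlt
  have hbase := letEl_mat h (g := 10) (by norm_num)
  obtain ⟨h1, h2, -⟩ := let_facts (g := 10) (by norm_num)
  refine ⟨mul_mem (mul_mem m1 (letEl_mem h h1 h2)) (inv_mem m1), ?_⟩
  have hl10 : (letMat10).length = 78 := by decide +kernel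
  have e := congrArg (decM w chevE6) heq
  rw [decM_cmul h.two h.root (by rw [hlen, dim_eq]) (by rw [wordMat_length, dim_eq]),
    decM_cmul h.two h.root (by rw [wordMat_length, dim_eq]) (by rw [hl10, dim_eq]), ← m2,
    show letMat10 = letMats.getD 10 [] from rfl, ← hbase, ← Units.val_mul] at e
  rw [invEl, Units.val_mul, ← e, mul_assoc, Units.mul_inv, mul_one]

end Cfsg.Lib.Chev.Fi22InTwE6
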