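import Cfsg.Agent.Lib.Chev.TwAutOut

/-!
A subgroup with scalar commutant whose automorphisms have inner squares is not conjugate to its images under
outer diagonal automorphisms of order three.
-/

set_option autoImplicit false
set_option linter.unusedSectionVars false

namespace Cfsg.Lib.Chev

open Cfsg.Lie

namespace TwCtx

variable {D : ChevalleyDatum} {T : Tbl} {F : Type*} [Field F] (X : TwCtx D T F) [Finite F]
variable (A : X.AutChecks)
include A

/-- A diagonal automorphism is conjugation by a diagonal matrix. -/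
theorem exists_diagMatrix (w : X.Scal) :
    ∃ δ : GL D.Idx F, ∀ y : ↥X.grp, ((X.diagT A w y : ↥X.grp) : GL D.Idx F) = δ * (y : GL D.Idx F) * δ⁻¹ := by
  classical
  obtain ⟨χ, hχ, hv'⟩ := exists_rootCharacter X.cert A.delta.choose_spec (X.parAll fun J => (w J : Fˣ))
  let δ : GL D.Idx F := ⟨D.charDiag F χ, D.charDiag F (fun r => (χ r)⁻¹), by
    rw [ChevalleyDatum.charDiag, ChevalleyDatum.charDiag, Matrix.diagonal_mul_diagonal, Matrix.diagonal_eq_one]
    funext i; rcases i with i | i <;> simp, by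
    rw [ChevalleyDatum.charDiag, ChevalleyDatum.charDiag, Matrix.diagonal_mul_diagonal, Matrix.diagonal_eq_one]
    funext i; rcases i with i | i <;> simp⟩
  have hconj : ∀ r < D.nroots, ∀ t : F, δ * xg X.cert r t * δ⁻¹ = xg X.cert r ((χ r : F) * t) := fun r hr t =>
    Units.ext (by
      rw [Units.val_mul, Units.val_mul, coe_xg, coe_xg]
      exact charDiag_mul_x X.cert A.len A.step hχ hr t)
  refine ⟨δ, fun y => ?_⟩
  have key : ∀ (l : List ℕ) (hl : ∀ i ∈ l, i < D.rank) (t u v : F),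
      (∀ m (hm : m < l.length), (X.parAll (fun J => (w J : Fˣ)) ⟨l[m], hl _ (List.getElem_mem hm)⟩ : F) *
          X.frob^[m] t = X.frob^[m] u ∧
        (((X.parAll (fun J => (w J : Fˣ)) ⟨l[m], hl _ (List.getElem_mem hm)⟩)⁻¹ : Fˣ) : F) *
          X.frob^[m] t = X.frob^[m] v) →
      δ * orbEl X.cert X.frob (l.map T.simp') t * δ⁻¹ = orbEl X.cert X.frob (l.map T.simp') u ∧
      δ * orbEl X.cert X.frob (l.map fun i => T.neg (T.simp' i)) t * δ⁻¹ =
        orbEl X.cert X.frob (l.map fun i => T.neg (T.simp' i)) v := by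
    intro l
    induction l with
    | nil => intro hl t u v _; simp [orbEl]
    | cons i l ih =>
      intro hl t u v hcl
      have h0 := hcl 0 (Nat.zero_lt_succ _)
      simp only [List.getElem_cons_zero, Function.iterate_zero, id_eq] at h0
      have hi := hl i (List.mem_cons_self ..)
      obtain ⟨ih1, ih2⟩ := ih (fun x hx => hl x (List.mem_cons_of_mem _ hx)) (X.frob t) (X.frob u) (X.frob v)
        fun m hm => by
          have := hcl (m + 1) (Nat.succ_lt_succ hm)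
          simpa only [List.getElem_cons_succ, Function.iterate_succ_apply] using this
      have hp := X.cert.spec.simp_lt i hi
      have e1 : (χ (T.simp' i) : F) * t = u := by rw [hv' ⟨i, hi⟩]; exact h0.1
      have e2 : (χ (T.neg (T.simp' i)) : F) * t = v := by
        rw [show χ (T.neg (T.simp' i)) = (χ (T.simp' i))⁻¹ by
          rw [← X.cert.spec.shape.neg_eq _ hp]; exact hχ.1 _ hp, hv' ⟨i, hi⟩]
        exact h0.2
      simp only [List.map_cons, orbEl]
      refine ⟨?_, ?_⟩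
      · rw [← ih1, ← e1, ← hconj _ hp]; group
      · rw [← ih2, ← e2, ← hconj _ (X.cert.spec.neg_lt _ hp)]; group
  have hgen : ∀ (J : Fin X.tw.norb) (t : ↥(X.sub J)),
      ((X.diagT A w (X.pe J t) : ↥X.grp) : GL D.Idx F) = δ * X.el J t * δ⁻¹ ∧
      ((X.diagT A w (X.pen J t) : ↥X.grp) : GL D.Idx F) = δ * X.eln J t * δ⁻¹ := by
    intro J t
    rw [(X.diagT_spec A w).1.pos, (X.diagT_spec A w).1.neg]
    obtain ⟨h1, h2⟩ := key (X.tw.orb J) (X.comb.orb_lt J J.2) (t : F) (((w J : Fˣ) : F) * t)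
      ((((w J : Fˣ))⁻¹ : Fˣ) * t) fun m hm => ⟨by rw [X.parAll_apply, iterate_mul],
        by rw [Units.val_inv_eq_inv_val, X.parAll_apply, Units.val_inv_eq_inv_val, iterate_mul]
           congr 1
           exact (Function.Semiconj.iterate_right (f := fun x : F => x⁻¹) (ga := X.frob) (gb := X.frob)
             (fun x => (map_inv₀ X.frob x).symm) m _)⟩
    have hb := X.simply.base_eq J J.2
    refine ⟨?_, ?_⟩
    · simp only [id_eq, el, hb]; exact h1.symm
    · simp only [id_eq, eln, hb, List.map_map]; exact h2.symm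
  let φ1 : ↥X.grp →* GL D.Idx F := X.grp.subtype.comp (X.diagT A w).toMonoidHom
  let φ2 : ↥X.grp →* GL D.Idx F := (MulAut.conj δ).toMonoidHom.comp X.grp.subtype
  suffices hh : φ1 = φ2 from DFunLike.congr_fun hh y
  refine MonoidHom.ext fun z => ?_
  obtain ⟨z, hz⟩ := z
  have hz' : z ∈ Subgroup.closure (twOrbGen X.cert X.frob X.tw) := X.grp_eq ▸ hz
  induction hz' using Subgroup.closure_induction with
  | mem x hx =>
    obtain ⟨J, hJ, t, ht, rfl | rfl⟩ := hx
    · exact (hgen ⟨J, hJ⟩ ⟨t, X.mem_sub.2 ht⟩).1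
    · exact (hgen ⟨J, hJ⟩ ⟨t, X.mem_sub.2 ht⟩).2
  | one => exact (map_one φ1).trans (map_one φ2).symm
  | mul a b ha hb iha ihb =>
    have hag : a ∈ X.grp := X.grp_eq ▸ ha
    have hbg : b ∈ X.grp := X.grp_eq ▸ hb
    rw [show (⟨a * b, hz⟩ : ↥X.grp) = ⟨a, hag⟩ * ⟨b, hbg⟩ from rfl, map_mul, map_mul, iha hag, ihb hbg]
  | inv a ha iha =>
    have hag : a ∈ X.grp := X.grp_eq ▸ ha
    rw [show (⟨a⁻¹, hz⟩ : ↥X.grp) = ⟨a, hag⟩⁻¹ from rfl, map_inv, map_inv, iha hag]

/-- An inner diagonal automorphism has scalars coming from the torus. -/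
theorem mem_range_of_inner {w : X.Scal} {x : ↥X.grp} (hx : X.diagT A w = MulAut.conj x) :
    w ∈ X.torScal.range := by
  classical
  have hkU : AutKeeps (X.diagT A w) X.posT := (X.diagT_spec A w).2.1
  have hkV : AutKeeps (X.diagT A w) X.negT := (X.diagT_spec A w).2.2
  have hxd : (x : GL D.Idx F) ∈ D.diagonalSubgroup F :=
    X.mem_diag_of_normalizes (Subgroup.mem_normalizer_iff.2 fun y => by
      rw [← hkU y, hx]; rfl) (Subgroup.mem_normalizer_iff.2 fun y => by rw [← hkV y, hx]; rfl)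
  obtain ⟨c, hc, ec⟩ := (X.simply.diag_fixed X.cert X.symOK X.frob X.full X.comb X.torus).1
    (show (x : GL D.Idx F) ∈ D.diagonalSubgroup F ⊓ X.grp from ⟨hxd, x.2⟩)
  have hconj : X.diagT A w = X.diagT A (X.torScal ⟨c, hc⟩) := by
    rw [hx, ← X.conj_tor A ⟨c, hc⟩]; exact congrArg _ (Subtype.ext ec.symm)
  refine ⟨⟨c, hc⟩, funext fun J => Subtype.ext (Units.ext ?_)⟩
  have := OrbAct.eval X (X.diagT_spec A (X.torScal ⟨c, hc⟩)).1 (by rw [← hconj]; exact (X.diagT_spec A w).1)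
    J (t := 1) (one_mem _)
  simpa using this

/-- The non-conjugacy. -/
theorem diagT_not_conj_of_scalar {H : Subgroup ↥X.grp}
    (hsq : ∀ α : MulAut ↥H, ∃ h : ↥H, α ^ 2 = MulAut.conj h)
    (hscal : ∀ γ : GL D.Idx F, (∀ y : ↥H, γ * ((y : ↥X.grp) : GL D.Idx F) = ((y : ↥X.grp) : GL D.Idx F) * γ) →
      ∀ z : GL D.Idx F, γ * z = z * γ)
    (g : ↥X.grp) {w : X.Scal} (hw3 : w ^ 3 = 1)
    (he : (H.map (X.diagT A w).toMonoidHom).map (MulAut.conj g).toMonoidHom = H) : w ∈ X.torScal.range := by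
  set Φ : MulAut ↥X.grp := MulAut.conj g * X.diagT A w with hΦ
  have heΦ : H.map Φ.toMonoidHom = H := by
    conv_rhs => rw [← he, Subgroup.map_map]
    rfl
  let α : MulAut ↥H := (Φ.subgroupMap H).trans (MulEquiv.subgroupCongr heΦ)
  obtain ⟨h, hh⟩ := hsq α
  obtain ⟨δ, hδ⟩ := X.exists_diagMatrix A w
  set P : GL D.Idx F := (g : GL D.Idx F) * δ
  have hP : ∀ y : ↥X.grp, ((Φ y : ↥X.grp) : GL D.Idx F) = P * (y : GL D.Idx F) * P⁻¹ := fun y => by
    show ((g * X.diagT A w y * g⁻¹ : ↥X.grp) : GL D.Idx F) = _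
    rw [Subgroup.coe_mul, Subgroup.coe_mul, Subgroup.coe_inv, hδ]
    simp only [P]; group
  set γ : GL D.Idx F := ((h : ↥X.grp) : GL D.Idx F)⁻¹ * (P * P) with hγ
  have hcomm : ∀ y : ↥H, γ * ((y : ↥X.grp) : GL D.Idx F) = ((y : ↥X.grp) : GL D.Idx F) * γ := by
    intro y
    have e := congrArg (fun β : MulAut ↥H => ((β y : ↥H) : ↥X.grp)) hh
    have e' : ((Φ (Φ (y : ↥X.grp)) : ↥X.grp) : GL D.Idx F) = (((h * y * h⁻¹ : ↥H) : ↥X.grp) : GL D.Idx F) := by
      rw [pow_two, MulAut.mul_apply] at e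
      exact congrArg Subtype.val e
    rw [hP, hP, Subgroup.coe_mul, Subgroup.coe_mul, Subgroup.coe_inv, Subgroup.coe_mul, Subgroup.coe_mul,
      Subgroup.coe_inv] at e'
    set Y := ((y : ↥X.grp) : GL D.Idx F)
    set Hh := ((h : ↥X.grp) : GL D.Idx F)
    calc γ * Y = Hh⁻¹ * (P * (P * Y * P⁻¹) * P⁻¹) * (P * P) := by rw [hγ]; group
      _ = Y * γ := by rw [e', hγ]; group
  have hinner : Φ * Φ = MulAut.conj (h : ↥X.grp) := by
    refine MulEquiv.ext fun z => Subtype.ext ?_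
    rw [MulAut.mul_apply, hP, hP]
    have := hscal γ hcomm (z : GL D.Idx F)
    set Hh := ((h : ↥X.grp) : GL D.Idx F)
    show _ = Hh * (z : GL D.Idx F) * Hh⁻¹
    calc P * (P * (z : GL D.Idx F) * P⁻¹) * P⁻¹ = Hh * (γ * (z : GL D.Idx F)) * (P * P)⁻¹ := by rw [hγ]; group
      _ = Hh * ((z : GL D.Idx F) * γ) * (P * P)⁻¹ := by rw [this]
      _ = _ := by rw [hγ]; group
  have e2 : X.diagT A (w * w) = MulAut.conj ((g * X.diagT A w g)⁻¹ * (h : ↥X.grp)) := by
    have hsplit : Φ * Φ = MulAut.conj (g * X.diagT A w g) * X.diagT A (w * w) := by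
      rw [X.diagT_mul, hΦ, map_mul]
      refine MulEquiv.ext fun z => ?_
      simp only [MulAut.mul_apply, MulAut.conj_apply, map_mul, map_inv]
    rw [hinner] at hsplit
    rw [map_mul, map_inv, hsplit, inv_mul_cancel_left]
  have hw2 := X.mem_range_of_inner A e2
  have hw4 := Subgroup.mul_mem _ hw2 hw2
  rwa [show w * w * (w * w) = w ^ 3 * w by simp [pow_succ, mul_assoc], hw3, one_mul] at hw4

/-- Three classes of conjugates. -/
theorem three_classes {H : Subgroup ↥X.grp}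
    (hsq : ∀ α : MulAut ↥H, ∃ h : ↥H, α ^ 2 = MulAut.conj h)
    (hscal : ∀ γ : GL D.Idx F, (∀ y : ↥H, γ * ((y : ↥X.grp) : GL D.Idx F) = ((y : ↥X.grp) : GL D.Idx F) * γ) →
      ∀ z : GL D.Idx F, γ * z = z * γ)
    (hker : Nat.card ↥((torusHom D T F).ker ⊓ twFixPar X.symOK X.frob X.cert) = 3)
    (hexp : ∀ u : Fˣ, u ^ 3 = 1) :
    ∃ Hs : Fin 3 → Subgroup ↥X.grp, (∀ i, Nonempty (↥(Hs i) ≃* ↥H)) ∧
      ∀ i j, i ≠ j → ∀ g : ↥X.grp, (Hs i).map (MulAut.conj g).toMonoidHom ≠ Hs j := by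
  classical
  let R := X.torScal.range
  have hRtop : R ≠ ⊤ := by
    intro htop
    have h1 : Nat.card ↥X.torScal.ker * Nat.card ↥R = Nat.card X.Scal := by
      have h2 := Subgroup.card_eq_card_quotient_mul_card_subgroup X.torScal.ker
      rw [Nat.card_congr (QuotientGroup.quotientKerEquivRange _).toEquiv, X.card_par_scal A] at h2
      rw [h2, mul_comm]
    rw [htop, Subgroup.card_top] at h1
    have hker1 : Nat.card ↥X.torScal.ker = 1 := (Nat.mul_eq_right Nat.card_pos.ne').1 h1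
    have hker3 : Nat.card ↥X.torScal.ker = 3 := by
      refine Eq.trans ?_ hker
      exact Nat.card_eq_of_bijective
        (fun z => (⟨z.1.1, (X.torScal_eq_one A).1 (MonoidHom.mem_ker.1 z.2), z.1.2⟩ :
          ↥((torusHom D T F).ker ⊓ twFixPar X.symOK X.frob X.cert)))
        ⟨fun a b h => Subtype.ext (Subtype.ext (congrArg (fun z : ↥((torusHom D T F).ker ⊓
          twFixPar X.symOK X.frob X.cert) => (z : Fin D.rank → Fˣ)) h)),
          fun z => ⟨⟨⟨z.1, z.2.2⟩, MonoidHom.mem_ker.2 ((X.torScal_eq_one A).2 z.2.1)⟩, rfl⟩⟩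
    omega
  obtain ⟨v, hv⟩ : ∃ v : X.Scal, v ∉ R := by
    by_contra hh
    push Not at hh
    exact hRtop ((Subgroup.eq_top_iff' R).2 hh)
  have hexp' : ∀ u : X.Scal, u ^ 3 = 1 := fun u => funext fun J => Subtype.ext (hexp (u J : Fˣ))
  have hne : ∀ i j : Fin 3, i ≠ j → v ^ (i : ℕ) * (v ^ (j : ℕ))⁻¹ ∉ R := by
    intro i j hij hmem
    have hv3 := hexp' v
    have hv3' : v⁻¹ = v ^ 2 := inv_eq_of_mul_eq_one_right (by rw [← pow_succ']; exact hv3)
    have e : v ^ (i : ℕ) * (v ^ (j : ℕ))⁻¹ = v ^ (((i : ℕ) + 2 * j) % 3) := by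
      rw [← inv_pow, hv3', ← pow_mul, ← pow_add, pow_eq_pow_mod _ hv3]
    rw [e] at hmem
    have hcase : ((i : ℕ) + 2 * j) % 3 = 1 ∨ ((i : ℕ) + 2 * j) % 3 = 2 := by
      have : (i : ℕ) ≠ j := fun e => hij (Fin.ext e)
      have := i.2
      have := j.2
      omega
    rcases hcase with c | c <;> rw [c] at hmem
    · rw [pow_one] at hmem; exact hv hmem
    · have h4 := R.pow_mem hmem 2
      rw [← pow_mul, show 2 * 2 = 3 + 1 from rfl, pow_succ, hv3, one_mul] at h4
      exact hv h4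
  have hone : X.diagT A (1 : X.Scal) = 1 :=
    mul_left_cancel (a := X.diagT A 1) (by rw [← X.diagT_mul, one_mul, mul_one])
  refine ⟨fun i => H.map (X.diagT A (v ^ (i : ℕ))).toMonoidHom,
    fun i => ⟨((X.diagT A (v ^ (i : ℕ))).subgroupMap H).symm⟩, fun i j hij g he => hne i j hij ?_⟩
  set a := v ^ (i : ℕ)
  set b := v ^ (j : ℕ)
  refine X.diagT_not_conj_of_scalar A hsq hscal (X.diagT A b⁻¹ g) (hexp' _) ?_
  have h2 := congrArg (fun S : Subgroup ↥X.grp => S.map (X.diagT A b⁻¹).toMonoidHom) he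
  have h3 : (H.map (X.diagT A b).toMonoidHom).map (X.diagT A b⁻¹).toMonoidHom = H := by
    rw [Subgroup.map_map]
    convert Subgroup.map_id H
    refine MonoidHom.ext fun y => Subtype.ext ?_
    show ((X.diagT A b⁻¹ (X.diagT A b y) : ↥X.grp) : GL D.Idx F) = y
    rw [← MulAut.mul_apply, ← X.diagT_mul, inv_mul_cancel, hone]
    rfl
  simp only at h2
  rw [h3, Subgroup.map_map, Subgroup.map_map] at h2
  rw [Subgroup.map_map]
  conv_rhs => rw [← h2]
  congr 1
  refine MonoidHom.ext fun y => ?_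
  show X.diagT A b⁻¹ g * X.diagT A (a * b⁻¹) y * (X.diagT A b⁻¹ g)⁻¹ =
    X.diagT A b⁻¹ (g * X.diagT A a y * g⁻¹)
  rw [map_mul, map_mul, map_inv, mul_comm a b⁻¹, X.diagT_mul, MulAut.mul_apply]

end TwCtx

end Cfsg.Lib.Chev
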