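import Cfsg.Agent.Lib.Chev.Fi22InTwE6.Irred
import Cfsg.Agent.Lib.Chev.Fi22InTwE6.NonConj
import Cfsg.Prelude.Def_KGroupFacts

/-! Three classes of subgroups with scalar commutant in ²E₆(2), coming from the presented Fischer group. -/

set_option autoImplicit false
set_option linter.unusedSectionVars false
set_option maxRecDepth 100000

namespace Cfsg.Lib.Chev.Fi22InTwE6

open Cfsg.Lie Cfsg.Spor

/-- In a group whose outer automorphism group has order two the square of an automorphism is inner. -/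
theorem sq_inner_of_out {P H : Type*} [Group P] [Group H] (hP : Nat.card (Cfsg.Out P) = 2) (e : H ≃* P)
    (α : MulAut H) : ∃ h : H, α ^ 2 = MulAut.conj h := by
  let β : MulAut P := (e.symm.trans α).trans e
  have hb : (QuotientGroup.mk β : Cfsg.Out P) ^ 2 = 1 := by
    have h := pow_card_eq_one' (x := (QuotientGroup.mk β : Cfsg.Out P))
    rwa [hP] at h
  rw [← QuotientGroup.mk_pow, QuotientGroup.eq_one_iff] at hb
  obtain ⟨p, hp⟩ := hb
  refine ⟨e.symm p, MulEquiv.ext fun z => e.injective ?_⟩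
  have h1 := DFunLike.congr_fun hp (e z)
  simp only [pow_two, MulAut.mul_apply, MulEquiv.trans_apply, MulEquiv.symm_apply_apply, MulAut.conj_apply, β] at h1
  simp only [pow_two, MulAut.mul_apply, MulAut.conj_apply, map_mul, map_inv, MulEquiv.apply_symm_apply]
  exact h1.symm

/-- The subgroup generated by `b, …, i`. -/
noncomputable def subO7 : Subgroup Cfsg.Spor.Fi22 :=
  (Subgroup.closure ({Cfsg.Spor.Fi22.b, Cfsg.Spor.Fi22.c, Cfsg.Spor.Fi22.d, Cfsg.Spor.Fi22.e, Cfsg.Spor.Fi22.f,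
    Cfsg.Spor.Fi22.g, Cfsg.Spor.Fi22.h, Cfsg.Spor.Fi22.i} : Set (FreeGroup Cfsg.Spor.Fi22.Gen))).map
    (PresentedGroup.mk (Cfsg.Spor.coxRelators Cfsg.Spor.Fi22.edges ∪ {r | r ∈ Cfsg.Spor.Fi22.extra}))

variable {K : Type*} [Field K] {X : TwCtx chevE6 tblE6 K} {w : K}

/-- The commutant of the image of a subgroup containing `b, …, i` is scalar. -/
theorem scalar_image (h : Setting X w) {S : Subgroup Cfsg.Spor.Fi22} (hS : subO7 ≤ S) (γ : GL chevE6.Idx K)
    (hγ : ∀ y : ↥(S.map (toGrp h)), γ * ((y : ↥X.grp) : GL chevE6.Idx K) = ((y : ↥X.grp) : GL chevE6.Idx K) * γ)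
    (z : GL chevE6.Idx K) : γ * z = z * γ := by
  have hmem : ∀ x : Fi22.Gen, 1 ≤ genNum x → (PresentedGroup.of x : Cfsg.Spor.Fi22) ∈ S := by
    intro x hx
    refine hS ⟨FreeGroup.of x, Subgroup.subset_closure ?_, rfl⟩
    cases x
    · exact absurd hx (by decide)
    all_goals simp
  have hG : ∀ i, 1 ≤ i → i < 9 → (γ : Matrix chevE6.Idx chevE6.Idx K) * decM w chevE6 (invMats.getD i []) =
      decM w chevE6 (invMats.getD i []) * (γ : Matrix chevE6.Idx chevE6.Idx K) := by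
    intro i h1 h9
    obtain ⟨x, hx⟩ : ∃ x : Fi22.Gen, genNum x = i := by
      interval_cases i
      exacts [⟨.b, rfl⟩, ⟨.c, rfl⟩, ⟨.d, rfl⟩, ⟨.e, rfl⟩, ⟨.f, rfl⟩, ⟨.g, rfl⟩, ⟨.h, rfl⟩, ⟨.i, rfl⟩]
    subst hx
    have := hγ ⟨toGrp h (PresentedGroup.of x), Subgroup.mem_map_of_mem _ (hmem x h1)⟩
    simp only [toGrp_of] at this
    rw [← genEl_mat h x, ← Units.val_mul, ← Units.val_mul, this]
  obtain ⟨s, hs⟩ := scalar_of_commute h.two h.root hG
  refine Units.ext ?_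
  rw [Units.val_mul, Units.val_mul, hs, Matrix.smul_mul, Matrix.mul_smul, one_mul, mul_one]

variable [Finite K]

/-- Three classes of copies of a subgroup containing `b, …, i`. -/
theorem three_of_subgroup (h : Setting X w) (A : X.AutChecks)
    (hker : Nat.card ↥((torusHom chevE6 tblE6 K).ker ⊓ twFixPar X.symOK X.frob X.cert) = 3)
    (hexp : ∀ u : Kˣ, u ^ 3 = 1) {S : Subgroup Cfsg.Spor.Fi22} (hS : subO7 ≤ S) {P : Type*} [Group P]
    (hP : Nat.card (Cfsg.Out P) = 2) (e : ↥S ≃* P) :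
    ∃ Hs : Fin 3 → Subgroup ↥X.grp, (∀ i, Nonempty (↥(Hs i) ≃* P)) ∧
      ∀ i j, i ≠ j → ∀ g : ↥X.grp, (Hs i).map (MulAut.conj g).toMonoidHom ≠ Hs j := by
  let e1 : ↥(S.map (toGrp h)) ≃* P := (S.equivMapOfInjective _ (toGrp_injective h)).symm.trans e
  obtain ⟨Hs, h1, h2⟩ := X.three_classes A (sq_inner_of_out hP e1) (scalar_image h hS) hker hexp
  exact ⟨Hs, fun i => ⟨(h1 i).some.trans e1⟩, h2⟩

end Cfsg.Lib.Chev.Fi22InTwE6
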