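import Cfsg.Agent.Lib.Chev.Eval

/-!
Vectors and matrices over a field with four elements, each vector packed into two natural numbers: the bits of
the two coordinates over the prime field.
-/

set_option autoImplicit false
set_option linter.unusedSectionVars false

namespace Cfsg.Lib.Chev.Fi22InTwE6

open Cfsg.Lie
open scoped Matrix

/-- A matrix by its columns. -/
abbrev Mat : Type := List (ℕ × ℕ)

/-- The sum of two vectors. -/
def cadd (a b : ℕ × ℕ) : ℕ × ℕ := (a.1 ^^^ b.1, a.2 ^^^ b.2)

/-- The generator times a vector. -/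
def cmw (a : ℕ × ℕ) : ℕ × ℕ := (a.2, a.1 ^^^ a.2)

/-- A scalar times a vector. -/
def csmul (l h : Bool) (a : ℕ × ℕ) : ℕ × ℕ :=
  cadd (bif l then a else (0, 0)) (bif h then cmw a else (0, 0))

/-- A matrix applied to a vector, adding to an accumulator and consuming the bits of the vector. -/
def appAux : Mat → ℕ → ℕ → ℕ → ℕ → ℕ × ℕ
  | [], _, _, s, t => (s, t)
  | (a, b) :: A, l, h, s, t =>
    bif Nat.beq (l % 2) 1 then
      (bif Nat.beq (h % 2) 1 then appAux A (l / 2) (h / 2) (s ^^^ (a ^^^ b)) (t ^^^ a)
       else appAux A (l / 2) (h / 2) (s ^^^ a) (t ^^^ b))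
    else
      (bif Nat.beq (h % 2) 1 then appAux A (l / 2) (h / 2) (s ^^^ b) (t ^^^ (a ^^^ b))
       else appAux A (l / 2) (h / 2) s t)

/-- A matrix applied to a vector. -/
def capp (A : Mat) (v : ℕ × ℕ) : ℕ × ℕ := appAux A v.1 v.2 0 0

/-- The product of two matrices. -/
def cmul (A B : Mat) : Mat := B.map (capp A)

/-- The identity matrix. -/
def cone (n : ℕ) : Mat := (List.range n).map fun k => (2 ^ k, 0)

/-- A power of a matrix. -/
def cpow (n : ℕ) (A : Mat) : ℕ → Mat
  | 0 => cone n
  | m + 1 => cmul A (cpow n A m)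

/-- The sum of two matrices. -/
def caddM (A B : Mat) : Mat := List.zipWith cadd A B

/-- The code of a term with parameter a power of the generator. -/
def trmCode (k : ℕ) (x : Trm) : ℕ × ℕ :=
  bif decide (x.c % 2 = 0) then (0, 0) else
    csmul (!decide (((k : ℤ) * x.a) % 3 = 1)) (!decide (((k : ℤ) * x.a) % 3 = 0)) (2 ^ x.row, 0)

/-- The code of a list of terms. -/
def trmsCode (k : ℕ) : List Trm → ℕ × ℕ
  | [] => (0, 0)
  | x :: l => cadd (trmCode k x) (trmsCode k l)

/-- The matrix of a root element with parameter a power of the generator. -/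
def rootMat (T : Tbl) (k r : ℕ) : Mat :=
  (List.range (T.rank + T.nroots)).map fun c => trmsCode k (xCol T r [⟨1, 1, 0⟩] c)

/-- The matrix of an orbit element with parameter a power of the generator. -/
def orbMat (T : Tbl) : List ℕ → ℕ → Mat
  | [], _ => cone (T.rank + T.nroots)
  | r :: l, k => cmul (rootMat T k r) (orbMat T l (2 * k % 3))

variable {D : ChevalleyDatum} {T : Tbl} {K : Type*} [Field K] (w : K)

/-- The value of a pair of bits. -/
def cval (l h : Bool) : K := (bif l then 1 else 0) + w * (bif h then 1 else 0)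

/-- The vector of a code. -/
def decV (D : ChevalleyDatum) (a : ℕ × ℕ) : D.Idx → K :=
  fun j => cval w (a.1.testBit (enc j)) (a.2.testBit (enc j))

/-- The matrix of a code. -/
def decM (D : ChevalleyDatum) (A : Mat) : Matrix D.Idx D.Idx K :=
  fun i j => decV w D (A.getD (enc j) (0, 0)) i

variable {w} (h2 : (2 : K) = 0) (hw : w ^ 2 = w + 1)
include h2 hw

theorem neg_self' (a : K) : -a = a := by linear_combination (-a) * h2

theorem cval_add (l h l' h' : Bool) : cval w (l ^^ l') (h ^^ h') = cval w l h + cval w l' h' := by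
  cases l <;> cases h <;> cases l' <;> cases h' <;> simp [cval] <;> ring_nf <;> simp [h2]

theorem decV_cadd (a b : ℕ × ℕ) : decV w D (cadd a b) = decV w D a + decV w D b := by
  funext j
  simp only [decV, cadd, Nat.testBit_xor, Pi.add_apply]
  exact cval_add h2 hw _ _ _ _

omit h2 hw in
theorem decV_zero : decV w D (0, 0) = (0 : D.Idx → K) := by
  funext j
  simp [decV, cval]

theorem decV_cmw (a : ℕ × ℕ) : decV w D (cmw a) = w • decV w D a := by
  funext j
  simp only [decV, cmw, Nat.testBit_xor, Pi.smul_apply, smul_eq_mul, cval]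
  cases a.1.testBit (enc j) <;> cases a.2.testBit (enc j) <;> simp <;> ring_nf <;> simp [hw] <;> ring_nf <;>
    simp [h2]

theorem decV_csmul (l h : Bool) (a : ℕ × ℕ) : decV w D (csmul l h a) = cval w l h • decV w D a := by
  rw [csmul, decV_cadd h2 hw]
  cases l <;> cases h <;>
    simp only [cond_true, cond_false, decV_zero, decV_cmw h2 hw, cval, mul_zero, mul_one, add_zero, zero_add,
      add_smul, one_smul, zero_smul]

theorem decV_appAux : ∀ (A : Mat) (l h s t : ℕ), decV w D (appAux A l h s t) = decV w D (s, t) +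
    ∑ m ∈ Finset.range A.length, cval w (l.testBit m) (h.testBit m) • decV w D (A.getD m (0, 0))
  | [], l, h, s, t => by simp [appAux]
  | (a, b) :: A, l, h, s, t => by
    rw [List.length_cons, Finset.sum_range_succ', List.getD_cons_zero]
    simp only [List.getD_cons_succ, Nat.testBit_succ]
    have key : ∀ L H : Bool, decV w D (cadd (s, t) (csmul L H (a, b))) =
        decV w D (s, t) + cval w L H • decV w D (a, b) := fun L H => by
      rw [decV_cadd h2 hw, decV_csmul h2 hw]
    rw [appAux, Nat.testBit_zero, Nat.testBit_zero]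
    have b0 : Nat.beq 0 1 = false := rfl
    have b1 : Nat.beq 1 1 = true := rfl
    have fin : ∀ (L H : Bool) (s' t' : ℕ), (s', t') = cadd (s, t) (csmul L H (a, b)) →
        decV w D (appAux A (l / 2) (h / 2) s' t') = decV w D (s, t) +
          (∑ m ∈ Finset.range A.length,
              cval w ((l / 2).testBit m) ((h / 2).testBit m) • decV w D (A.getD m (0, 0)) +
            cval w L H • decV w D (a, b)) := fun L H s' t' e => by
      rw [decV_appAux A, e, key]
      abel
    rcases Nat.mod_two_eq_zero_or_one l with hl | hl <;> rcases Nat.mod_two_eq_zero_or_one h with hh | hh <;>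
      simp only [hl, hh, b0, b1, cond_true, cond_false, zero_ne_one, decide_false, decide_true] <;>
      refine fin _ _ _ _ ?_ <;>
      simp [cadd, csmul, cmw]

omit h2 hw in
theorem sum_enc {α : Type*} [AddCommMonoid α] (g : ℕ → α) :
    ∑ t ∈ Finset.range (D.rank + D.nroots), g t = ∑ j : D.Idx, g (enc j) := by
  refine (Finset.sum_bij' (fun j _ => enc j) (fun t ht => (exists_enc (Finset.mem_range.1 ht)).choose)
    (fun j _ => Finset.mem_range.2 (enc_lt j)) (fun t _ => Finset.mem_univ _) ?_ ?_ (fun j _ => rfl)).symm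
  · intro j _
    exact enc_injective (exists_enc (enc_lt j)).choose_spec
  · intro t ht
    exact (exists_enc (Finset.mem_range.1 ht)).choose_spec

theorem decV_capp {A : Mat} (hA : A.length = D.rank + D.nroots) (v : ℕ × ℕ) :
    decV w D (capp A v) = decM w D A *ᵥ decV w D v := by
  rw [capp, decV_appAux h2 hw, hA, decV_zero, zero_add]
  funext i
  rw [Finset.sum_apply, sum_enc (D := D)]
  simp only [Matrix.mulVec, dotProduct, Pi.smul_apply, smul_eq_mul, decM]
  refine Finset.sum_congr rfl fun j _ => ?_
  rw [mul_comm]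
  rfl

theorem decM_cmul {A B : Mat} (hA : A.length = D.rank + D.nroots) (hB : B.length = D.rank + D.nroots) :
    decM w D (cmul A B) = decM w D A * decM w D B := by
  ext i j
  have hj : enc j < B.length := by rw [hB]; exact enc_lt j
  show decV w D ((cmul A B).getD (enc j) (0, 0)) i = _
  rw [cmul, List.getD_eq_getElem _ _ (by rw [List.length_map]; exact hj), List.getElem_map, decV_capp h2 hw hA,
    Matrix.mul_apply]
  simp only [Matrix.mulVec, dotProduct, decM, List.getD_eq_getElem _ _ hj]

omit h2 hw in
theorem decM_cone : decM w D (cone (D.rank + D.nroots)) = (1 : Matrix D.Idx D.Idx K) := by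
  ext i j
  show decV w D ((cone _).getD (enc j) (0, 0)) i = _
  rw [cone, List.getD_eq_getElem _ _ (by rw [List.length_map, List.length_range]; exact enc_lt j), List.getElem_map,
    List.getElem_range]
  simp only [decV, Nat.testBit_two_pow, Nat.zero_testBit]
  by_cases h : i = j
  · subst h; simp [cval]
  · have : ¬ enc j = enc i := fun e => h (enc_injective e).symm
    simp [cval, this, Matrix.one_apply_ne h]

omit h2 hw in
theorem cmul_length (A B : Mat) : (cmul A B).length = B.length := List.length_map _

omit h2 hw in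
theorem cone_length (n : ℕ) : (cone n).length = n := by simp [cone]

omit h2 hw in
theorem cpow_length {n : ℕ} {A : Mat} : ∀ m, (cpow n A m).length = n
  | 0 => cone_length n
  | m + 1 => by rw [cpow, cmul_length, cpow_length m]

theorem decM_cpow {A : Mat} (hA : A.length = D.rank + D.nroots) :
    ∀ m, decM w D (cpow (D.rank + D.nroots) A m) = decM w D A ^ m
  | 0 => by rw [cpow, decM_cone, pow_zero]
  | m + 1 => by rw [cpow, decM_cmul h2 hw hA (cpow_length m), decM_cpow hA m, pow_succ']

theorem decM_caddM {A B : Mat} (h : A.length = B.length) :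
    decM w D (caddM A B) = decM w D A + decM w D B := by
  ext i j
  show decV w D ((caddM A B).getD (enc j) (0, 0)) i =
    decV w D (A.getD (enc j) (0, 0)) i + decV w D (B.getD (enc j) (0, 0)) i
  have hl : (caddM A B).length = A.length := by unfold caddM; rw [List.length_zipWith, h, min_self]
  by_cases hj : enc j < A.length
  · rw [List.getD_eq_getElem _ _ hj, List.getD_eq_getElem _ _ (lt_of_lt_of_eq hj h),
      List.getD_eq_getElem _ _ (lt_of_lt_of_eq hj hl.symm)]
    simp only [caddM, List.getElem_zipWith, decV_cadd h2 hw, Pi.add_apply]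
  · rw [List.getD_eq_default _ _ (by omega), List.getD_eq_default _ _ (by omega),
      List.getD_eq_default _ _ (by omega), decV_zero]
    simp

theorem w_ne_zero : w ≠ 0 := fun e => one_ne_zero (α := K) (by rw [e] at hw; linear_combination -hw)

theorem w_cube : w ^ 3 = 1 := by linear_combination (w + 1) * hw + w * h2

omit h2 hw in
theorem int_two_cases (h2 : (2 : K) = 0) (c : ℤ) : (c : K) = if c % 2 = 0 then 0 else 1 := by
  have e : (c : K) = ((c % 2 : ℤ) : K) := by
    conv_lhs => rw [← Int.emod_add_mul_ediv c 2]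
    push_cast
    rw [h2, zero_mul, add_zero]
  rcases Int.emod_two_eq_zero_or_one c with h | h <;> rw [e, h] <;> simp

theorem zpow_w (z : ℤ) : w ^ z = if z % 3 = 0 then 1 else if z % 3 = 1 then w else w + 1 := by
  have e : w ^ z = w ^ (z % 3) := by
    conv_lhs => rw [← Int.emod_add_mul_ediv z 3]
    rw [zpow_add₀ (w_ne_zero h2 hw), zpow_mul, show w ^ (3 : ℤ) = 1 by exact_mod_cast w_cube h2 hw, one_zpow, mul_one]
  rw [e]
  rcases (show z % 3 = 0 ∨ z % 3 = 1 ∨ z % 3 = 2 by omega) with h | h | h <;> rw [h] <;> simp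
  exact_mod_cast hw

theorem decV_trmCode (k : ℕ) (x : Trm) (j : D.Idx) :
    decV w D (trmCode k x) j = if x.row = enc j then x.val (w ^ k) 1 else 0 := by
  rw [trmCode]
  have hbit : decV w D (2 ^ x.row, 0) j = if x.row = enc j then 1 else 0 := by
    simp only [decV, Nat.testBit_two_pow, Nat.zero_testBit, cval]
    by_cases h : x.row = enc j <;> simp [h]
  have hval : x.val (w ^ k) (1 : K) = (x.c : K) * w ^ ((k : ℤ) * x.a) := by
    rw [Trm.val, one_zpow, mul_one, ← zpow_natCast, ← zpow_mul]
  rw [hval, int_two_cases h2 x.c, zpow_w h2 hw]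
  by_cases hc : x.c % 2 = 0
  · simp [hc, decV_zero]
  · simp only [hc, decide_false, cond_false, decV_csmul h2 hw, Pi.smul_apply, smul_eq_mul, hbit, if_false]
    by_cases hj : x.row = enc j
    · simp only [if_pos hj, mul_one, one_mul]
      rcases (show ((k : ℤ) * x.a) % 3 = 0 ∨ ((k : ℤ) * x.a) % 3 = 1 ∨ ((k : ℤ) * x.a) % 3 = 2 by omega) with
        h | h | h <;> rw [h] <;> norm_num [cval, add_comm]
    · simp only [if_neg hj, mul_zero]

theorem decV_trmsCode (k : ℕ) : ∀ l : List Trm, decV w D (trmsCode k l) = vec (w ^ k) 1 D l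
  | [] => by rw [trmsCode, decV_zero, vec_nil]
  | x :: l => by
    rw [trmsCode, decV_cadd h2 hw, decV_trmsCode k l, vec_cons]
    congr 1
    funext j
    rw [decV_trmCode h2 hw]
    simp [vec]

theorem decM_rootMat (S : Shape D T) (k : ℕ) {r : ℕ} (hr : r < D.nroots) :
    decM w D (rootMat T k r) = D.x K r (w ^ k) := by
  ext i j
  show decV w D ((rootMat T k r).getD (enc j) (0, 0)) i = _
  have hj : enc j < T.rank + T.nroots := by rw [S.rank_eq, S.nroots_eq]; exact enc_lt j
  rw [rootMat, List.getD_eq_getElem _ _ (by rw [List.length_map, List.length_range]; exact hj), List.getElem_map,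
    List.getElem_range, decV_trmsCode h2 hw, xCol_spec (w ^ k) 1 S (pow_ne_zero _ (w_ne_zero h2 hw)) one_ne_zero hr,
    pval_single, Mono.val]
  simp

omit h2 hw in
theorem orbMat_length : ∀ (l : List ℕ) (k : ℕ), (orbMat T l k).length = T.rank + T.nroots
  | [], k => cone_length _
  | r :: l, k => by rw [orbMat, cmul_length, orbMat_length]

end Cfsg.Lib.Chev.Fi22InTwE6
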